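import Groth.Agent.DualLocal7.Main
import Groth.Agent.TopDual7.Local
import Groth.Agent.CAlgOdd.Reflexive

/-!
# The dualizing sheaf of a scheme with a dualizing complex
-/

set_option linter.style.haveILetI false
set_option backward.isDefEq.respectTransparency false
set_option backward.isDefEq.respectTransparency.types false

universe u

open CategoryTheory CategoryTheory.Limits AlgebraicGeometry Order

attribute [local instance] HasDerivedCategory.standard

namespace Groth.Agent.DualSk7

open Groth.Agent Groth.Agent.KFlatLib Groth.Agent.PerfGen7 Groth.Agent.DualField7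

/-- Some component has full dimension. -/
theorem exists_minimal_dim {B : Type u} [CommRing B] (d : ℕ) (hd : ringKrullDim B = d) :
    ∃ P : PrimeSpectrum B, P.asIdeal ∈ minimalPrimes B ∧ ringKrullDim (B ⧸ P.asIdeal) = d := by
  obtain ⟨l, hl⟩ := Order.le_krullDim_iff.1 hd.ge
  obtain ⟨q, hq, hle⟩ := Ideal.exists_minimalPrimes_le (I := (⊥ : Ideal B)) (bot_le : ⊥ ≤ l.head.asIdeal)
  refine ⟨⟨q, hq.1.1⟩, hq, le_antisymm ((ringKrullDim_quotient_le _).trans hd.le) ?_⟩
  rw [ringKrullDim_quotient]
  let l' : LTSeries (PrimeSpectrum.zeroLocus ((⟨q, hq.1.1⟩ : PrimeSpectrum B).asIdeal : Set B)) :=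
    ⟨l.length, fun i => ⟨l i, fun x hx => LTSeries.head_le l i (hle hx)⟩, fun i => l.step i⟩
  rw [← hl]
  exact Order.LTSeries.length_le_krullDim l'

/-- The lowest cohomology of a dualizing complex at a prime. -/
theorem local_key {R : Type u} [CommRing R] [IsNoetherianRing R] {ω : Dual.D R} (hω : Dual.IsDualizing R ω)
    (n : ℤ) (hlow : ∀ i : ℤ, i < n → Subsingleton (Dual.HD R ω i)) (q : PrimeSpectrum R) :
    LocCoh.HasSk 2 (Localization.AtPrime q.asIdeal) (LocalizedModule q.asIdeal.primeCompl (Dual.HD R ω n)) ∧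
      (IsDomain R → Module.IsTorsionFree (Localization.AtPrime q.asIdeal)
        (LocalizedModule q.asIdeal.primeCompl (Dual.HD R ω n))) := by
  let B := Localization.AtPrime q.asIdeal
  haveI : IsNoetherianRing B := IsLocalization.isNoetherianRing q.asIdeal.primeCompl _ inferInstance
  obtain ⟨δ, hδ, -⟩ := exists_extDegree hω
  obtain ⟨ω', h1, h2, h3⟩ := LocalizeDual.exists_local hω hδ q
  have htr : ∀ i : ℤ, Nonempty (Dual.HD B ω' i ≃ₗ[B] LocalizedModule q.asIdeal.primeCompl (Dual.HD R ω (δ q + i))) :=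
    fun i => by
      obtain ⟨c⟩ := h3 R i
      obtain ⟨eW⟩ := exists_homRingLEquiv ω (δ q + i)
      obtain ⟨eB⟩ := exists_homRingLEquiv ω' i
      let c1 := (Linear.homCongr B
        ((DerivedCategory.singleFunctor (ModuleCat.{u} B) 0).mapIso (LC.selfLoc q.asIdeal.primeCompl).toModuleIso)
        (Iso.refl (ω'⟦i⟧))).symm.trans c
      exact ⟨(eB.symm.trans c1).trans (IsLocalizedModule.mapEquiv q.asIdeal.primeCompl
        (LocalizedModule.mkLinearMap _ _) (LocalizedModule.mkLinearMap _ _) B eW)⟩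
  obtain ⟨d, hd⟩ := LocalizeDual.exists_supportDim_eq (B := B) B
  rw [Module.supportDim_self_eq_ringKrullDim] at hd
  obtain ⟨hsupp, hS2⟩ := Groth.Agent.S0369.result B ω' h1 h2 d hd
  haveI : Nontrivial (Dual.HD B ω' (-(d : ℤ))) := by
    obtain ⟨P, hP, hPd⟩ : ∃ P : PrimeSpectrum B, P.asIdeal ∈ minimalPrimes B ∧ ringKrullDim (B ⧸ P.asIdeal) = d := by
      exact exists_minimal_dim d hd
    exact Module.nonempty_support_iff.1 ⟨P, hsupp.ge ⟨_, hP, le_rfl, hPd⟩⟩
  have hle : n ≤ δ q + (-(d : ℤ)) := by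
    by_contra hlt
    obtain ⟨e⟩ := htr (-(d : ℤ))
    haveI := hlow (δ q + (-(d : ℤ))) (by omega)
    haveI := LocalizedModule.instSubsingleton (S := q.asIdeal.primeCompl) (M := Dual.HD R ω (δ q + (-(d : ℤ))))
    exact not_subsingleton (Dual.HD B ω' (-(d : ℤ))) e.toEquiv.subsingleton
  obtain ⟨e⟩ := htr (n - δ q)
  rw [add_sub_cancel] at e
  rcases hle.lt_or_eq with hlt | heq
  · haveI : Subsingleton (Dual.HD B ω' (n - δ q)) := by
      haveI := TopDual7.isGE_normalized h1 h2 d hd
      exact ModuleCat.subsingleton_of_isZero (DerivedCategory.isZero_of_isGE ω' (-(d : ℤ)) (n - δ q) (by omega))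
    haveI : Subsingleton (LocalizedModule q.asIdeal.primeCompl (Dual.HD R ω n)) := e.symm.toEquiv.subsingleton
    refine ⟨fun Q _ => ?_, fun _ => Module.isTorsionFree_iff_smul_eq_zero.2 fun c x _ => Or.inr (Subsingleton.elim x 0)⟩
    haveI : Subsingleton (LocalizedModule Q.primeCompl (LocalizedModule q.asIdeal.primeCompl (Dual.HD R ω n))) :=
      LocalizedModule.subsingleton_iff.2 fun z => ⟨1, Submonoid.one_mem _, by rw [Subsingleton.elim z 0, smul_zero]⟩
    rw [(Module.supportDim_eq_bot_iff_subsingleton (Localization.AtPrime Q) _).2 inferInstance]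
    simp
  · have hnd : n - δ q = -(d : ℤ) := by omega
    rw [hnd] at e
    refine ⟨(Synt29.SmoothProps.hasSk_congr e 2).1 hS2, fun _ => ?_⟩
    haveI : Module.Finite B (Dual.HD B ω' (-(d : ℤ))) := h1.finite_cohomology _
    haveI : IsDomain B := IsLocalization.isDomain_localization q.asIdeal.primeCompl_le_nonZeroDivisors
    suffices h : Module.IsTorsionFree B (Dual.HD B ω' (-(d : ℤ))) from
      CAlgOdd.Refl.isTorsionFree_of_injective e.symm.toLinearMap e.symm.injective
    refine CAlgOdd.Refl.isTorsionFree_of_ass fun P hP => ?_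
    by_contra hP0
    haveI := hP.isPrime
    have hdepth : LocCoh.depth (Localization.AtPrime P) (LocalizedModule P.primeCompl (Dual.HD B ω' (-(d : ℤ)))) < 1 :=
      not_le.1 fun h => (Alg6.one_le_depth_atPrime_iff (M := Dual.HD B ω' (-(d : ℤ))) P).1 h hP
    have hbot : (⟨⊥, Ideal.isPrime_bot⟩ : PrimeSpectrum B) ∈ Module.support B (Dual.HD B ω' (-(d : ℤ))) := by
      obtain ⟨P₀, hP₀⟩ : (Module.support B (Dual.HD B ω' (-(d : ℤ)))).Nonempty := Module.nonempty_support_iff.2 inferInstance
      obtain ⟨q₀, hq₀, -, hq₀d⟩ := hsupp.le hP₀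
      refine hsupp.ge ⟨q₀, hq₀, ?_, hq₀d⟩
      rw [IsDomain.minimalPrimes_eq_singleton_bot] at hq₀
      rw [Set.mem_singleton_iff.1 hq₀]
    obtain ⟨m, hm⟩ := Module.mem_support_iff'.1 hbot
    let C := Localization.AtPrime P
    haveI : IsDomain C := IsLocalization.isDomain_localization P.primeCompl_le_nonZeroDivisors
    let N := LocalizedModule P.primeCompl (Dual.HD B ω' (-(d : ℤ)))
    have h0 : (⟨⊥, Ideal.isPrime_bot⟩ : PrimeSpectrum C) ∈ Module.support C N := by
      refine Module.mem_support_iff'.2 ⟨LocalizedModule.mkLinearMap P.primeCompl _ m, fun r hr h => ?_⟩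
      obtain ⟨⟨a, s⟩, rfl⟩ := IsLocalization.mk'_surjective P.primeCompl r |>.imp fun a ha => ha
      have h' := congrArg (fun z => algebraMap B C s • z) h
      simp only [smul_smul, smul_zero, IsLocalization.mk'_spec'] at h'
      rw [algebraMap_smul, ← map_smul] at h'
      obtain ⟨t, ht⟩ := (IsLocalizedModule.eq_zero_iff P.primeCompl _).1 h'
      rw [Submonoid.smul_def, smul_smul] at ht
      refine hm _ (fun hmem => ?_) ht
      rcases mul_eq_zero.1 (Ideal.mem_bot.1 hmem) with h1 | h1
      · exact t.2 (h1 ▸ P.zero_mem)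
      · refine hr (Ideal.mem_bot.2 ?_)
        show IsLocalization.mk' C a s = 0
        rw [show a = 0 from h1, IsLocalization.mk'_zero]
    have h1' : (1 : WithBot ℕ∞) ≤ Module.supportDim C N := by
      have hmax : (⊥ : Ideal C) < IsLocalRing.maximalIdeal C := by
        refine lt_of_le_of_ne bot_le fun h => hP0 ?_
        rw [← IsLocalization.AtPrime.under_maximalIdeal C P, ← h, Ideal.under_def]
        exact Ideal.comap_bot_of_injective _ (IsLocalization.injective C P.primeCompl_le_nonZeroDivisors)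
      let P₁ : Module.support C N := ⟨IsLocalRing.closedPoint C, Module.mem_support_mono bot_le h0⟩
      exact Order.LTSeries.length_le_krullDim (((RelSeries.singleton _ P₁).cons ⟨_, h0⟩ hmax))
    have := hS2 P
    have h3 : (1 : WithBot ℕ∞) ≤ ((LocCoh.depth C N : ℕ∞) : WithBot ℕ∞) :=
      le_trans (le_min (by norm_num) h1') this
    exact absurd (WithBot.coe_le_coe.1 h3) (not_le.2 hdepth)

end Groth.Agent.DualSk7
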